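import Groth.Agent.Lib.GeomReg18.Stalk
import Groth.Agent.Lib.Hens.Noetherian
import Mathlib.FieldTheory.IntermediateField.Adjoin.Algebra

/-!
# Geometric regularity descends along finitely generated field extensions
-/

universe u

open CategoryTheory CategoryTheory.Limits AlgebraicGeometry

namespace Groth.Agent.GeomReg18

/-- Regular local rings descend along flat morphisms. -/
theorem isRegularLocalRing_stalk_of_flat {W Y : Scheme.{u}} (g : W ⟶ Y) [Flat g] (w : W)
    (h : IsRegularLocalRing (W.presheaf.stalk w)) : IsRegularLocalRing (Y.presheaf.stalk (g w)) := by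
  letI := (g.stalkMap w).hom.toAlgebra
  haveI : Module.Flat (Y.presheaf.stalk (g w)) (W.presheaf.stalk w) := Flat.stalkMap g w
  haveI : IsLocalHom (algebraMap (Y.presheaf.stalk (g w)) (W.presheaf.stalk w)) :=
    inferInstanceAs (IsLocalHom (g.stalkMap w).hom)
  haveI := Module.FaithfullyFlat.of_flat_of_isLocalHom (A := Y.presheaf.stalk (g w)) (B := W.presheaf.stalk w)
  haveI := Hens.isNoetherianRing_of_faithfullyFlat (Y.presheaf.stalk (g w)) (W.presheaf.stalk w)
  exact RegLoc.isRegularLocalRing_of_flat (Y.presheaf.stalk (g w)) (W.presheaf.stalk w)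

theorem isGeomRegularAt_of_bc (k : Type u) [Field k] (X : Scheme.{u}) [X.Over (Spec (CommRingCat.of k))]
    (k' : Type u) [Field k'] [Algebra k k']
    (x' : ↥(Curv2.bc k X k'))
    (h : @Curv2.IsGeomRegularAt k' _ (Curv2.bc k X k') ⟨Curv2.bcSnd k X k'⟩ x') :
    Curv2.IsGeomRegularAt k X (Curv2.bcFst k X k' x') := by
  intro K _ _ hK w hw
  obtain ⟨z, hz1, hz2⟩ := Scheme.Pullback.exists_preimage_pullback x' w hw.symm
  let Z := pullback (Curv2.bcFst k X k') (Curv2.bcFst k X K)
  let i := Z.fromSpecResidueField z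
  let Ω : Type u := Z.residueField z
  let a₁ : Spec (CommRingCat.of Ω) ⟶ Curv2.bc k X k' := i ≫ pullback.fst _ _
  let a₂ : Spec (CommRingCat.of Ω) ⟶ Curv2.bc k X K := i ≫ pullback.snd _ _
  obtain ⟨a, ha⟩ := Spec.map_surjective (a₁ ≫ Curv2.bcSnd k X k')
  obtain ⟨b, hb⟩ := Spec.map_surjective (a₂ ≫ Curv2.bcSnd k X K)
  have hfst : a₁ ≫ Curv2.bcFst k X k' = a₂ ≫ Curv2.bcFst k X K := by
    simp only [a₁, a₂, Category.assoc, pullback.condition]
  have hc' : CommRingCat.ofHom (algebraMap k k') ≫ a = CommRingCat.ofHom (algebraMap k K) ≫ b := by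
    apply Spec.map_injective
    rw [Spec.map_comp, Spec.map_comp, ha, hb]
    calc (a₁ ≫ Curv2.bcSnd k X k') ≫ Spec.map (CommRingCat.ofHom (algebraMap k k'))
        = (a₁ ≫ Curv2.bcFst k X k') ≫ X ↘ Spec (CommRingCat.of k) := by
          rw [Category.assoc, Category.assoc]; exact congrArg (a₁ ≫ ·) pullback.condition.symm
      _ = (a₂ ≫ Curv2.bcFst k X K) ≫ X ↘ Spec (CommRingCat.of k) := by rw [hfst]
      _ = (a₂ ≫ Curv2.bcSnd k X K) ≫ Spec.map (CommRingCat.ofHom (algebraMap k K)) := by
          rw [Category.assoc, Category.assoc]; exact congrArg (a₂ ≫ ·) pullback.condition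
  letI : Algebra k' Ω := a.hom.toAlgebra
  letI : Algebra k Ω := (a.hom.comp (algebraMap k k')).toAlgebra
  haveI : IsScalarTower k k' Ω := IsScalarTower.of_algebraMap_eq fun _ => rfl
  let bA : K →ₐ[k] Ω :=
    { b.hom with commutes' := fun r => (congrArg (fun f : CommRingCat.of k ⟶ CommRingCat.of Ω => f.hom r) hc').symm }
  obtain ⟨S, hS⟩ := hK
  let L : IntermediateField k' Ω := IntermediateField.adjoin k' (bA '' (S : Set K))
  have hbL : ∀ y : K, bA y ∈ L := by
    have hle : IntermediateField.adjoin k (S : Set K) ≤ (L.restrictScalars k).comap bA :=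
      IntermediateField.adjoin_le_iff.2 fun s hs => IntermediateField.subset_adjoin _ _ ⟨s, hs, rfl⟩
    intro y
    exact hle (hS ▸ IntermediateField.mem_top)
  let bL : K →+* L := bA.toRingHom.codRestrict L.toSubfield hbL
  have hbk : bL.comp (algebraMap k K) = algebraMap k L := RingHom.ext fun r => Subtype.ext (bA.commutes r)
  have hLfg : (⊤ : IntermediateField k' L).FG := by
    rw [IntermediateField.fg_top_iff, IntermediateField.essFiniteType_iff]
    exact IntermediateField.fg_adjoin_of_finite (S.finite_toSet.image _)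
  let j : Spec (CommRingCat.of Ω) ⟶ Spec (CommRingCat.of L) := Spec.map (CommRingCat.ofHom L.val.toRingHom)
  letI : (Curv2.bc k X k').Over (Spec (CommRingCat.of k')) := ⟨Curv2.bcSnd k X k'⟩
  let p : Spec (CommRingCat.of Ω) ⟶ Curv2.bc k' (Curv2.bc k X k') L :=
    pullback.lift a₁ j (by
      change a₁ ≫ Curv2.bcSnd k X k' = _
      rw [← ha, ← Spec.map_comp]
      rfl)
  let w'' := p (IsLocalRing.closedPoint Ω)
  have hi : i (IsLocalRing.closedPoint Ω) = z := Scheme.fromSpecResidueField_apply _ _
  have hreg := h L hLfg w'' (by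
    change (p ≫ Curv2.bcFst k' (Curv2.bc k X k') L) (IsLocalRing.closedPoint Ω) = x'
    rw [Curv2.bcFst, pullback.lift_fst, ← hz1]
    exact congrArg (pullback.fst (Curv2.bcFst k X k') (Curv2.bcFst k X K)) hi)
  let g : Curv2.bc k' (Curv2.bc k X k') L ⟶ Curv2.bc k X K :=
    (pullbackLeftPullbackSndIso _ _ _).hom ≫
      pullback.map _ _ _ (Spec.map (CommRingCat.ofHom (algebraMap k K))) (𝟙 X) (Spec.map (CommRingCat.ofHom bL)) (𝟙 _)
        (by simp) (by
          rw [Category.comp_id, ← Spec.map_comp, ← Spec.map_comp, ← CommRingCat.ofHom_comp, ← CommRingCat.ofHom_comp, hbk,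
            ← IsScalarTower.algebraMap_eq k k' L])
  haveI : Flat g := by
    haveI : Flat (Spec.map (CommRingCat.ofHom bL)) := by
      rw [HasRingHomProperty.Spec_iff (P := @Flat)]
      letI := bL.toAlgebra
      exact RingHom.flat_algebraMap_iff.2 inferInstance
    haveI : Flat (pullback.map (X ↘ Spec (CommRingCat.of k))
        (Spec.map (CommRingCat.ofHom (algebraMap k' L)) ≫ Spec.map (CommRingCat.ofHom (algebraMap k k')))
        (X ↘ Spec (CommRingCat.of k)) (Spec.map (CommRingCat.ofHom (algebraMap k K)))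
        (𝟙 X) (Spec.map (CommRingCat.ofHom bL)) (𝟙 _) (by simp) (by
          rw [Category.comp_id, ← Spec.map_comp, ← Spec.map_comp, ← CommRingCat.ofHom_comp, ← CommRingCat.ofHom_comp, hbk,
            ← IsScalarTower.algebraMap_eq k k' L])) :=
      MorphismProperty.pullback_map (P := @Flat) (i₁ := 𝟙 X) (i₂ := Spec.map (CommRingCat.ofHom bL))
        inferInstance inferInstance (Category.id_comp _).symm (by
          rw [← Spec.map_comp, ← Spec.map_comp, ← CommRingCat.ofHom_comp, ← CommRingCat.ofHom_comp, hbk,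
            ← IsScalarTower.algebraMap_eq k k' L])
    exact inferInstanceAs (Flat (_ ≫ _))
  have hpg : p ≫ g = a₂ := by
    apply pullback.hom_ext
    · simp only [g, Category.assoc]
      erw [pullback.lift_fst, Category.comp_id, pullbackLeftPullbackSndIso_hom_fst, pullback.lift_fst_assoc]
      exact hfst
    · simp only [g, Category.assoc]
      erw [pullback.lift_snd]
      erw [pullbackLeftPullbackSndIso_hom_snd_assoc, pullback.lift_snd_assoc]
      change _ = a₂ ≫ Curv2.bcSnd k X K
      rw [← hb, ← Spec.map_comp]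
      rfl
  have := isRegularLocalRing_stalk_of_flat g w'' hreg
  have hgw : g w'' = w := by
    change (p ≫ g) (IsLocalRing.closedPoint Ω) = w
    rw [hpg, ← hz2]
    exact congrArg (pullback.snd (Curv2.bcFst k X k') (Curv2.bcFst k X K)) hi
  rwa [hgw] at this

end Groth.Agent.GeomReg18
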