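import Groth.Prelude.Def_Curv2
import Groth.Agent.Lib.Descend.BaseChangeAt
import Groth.Agent.Lib.RegLoc.GlobalDim
import Mathlib.AlgebraicGeometry.PullbackCarrier
import Mathlib.AlgebraicGeometry.Morphisms.UniversallyInjective
import Mathlib.RingTheory.Localization.AtPrime.Basic
import Mathlib.RingTheory.Flat.FaithfullyFlat.Basic

/-!
# The local rings of a base change `X_K` over a point `x` and the ring `O_x ⊗ K`
-/

universe u

open CategoryTheory CategoryTheory.Limits AlgebraicGeometry
open scoped TensorProduct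

namespace Groth.Agent.GeomReg18

attribute [local instance] Curv2.stalkAlgebra

variable (k : Type u) [Field k] {X : Scheme.{u}} [X.Over (Spec (CommRingCat.of k))]
  (K : Type u) [Field K] [Algebra k K]

theorem spec_stalkMap (x : X) :
    Spec.map (CommRingCat.ofHom (Curv2.stalkMap k X x)) =
      X.fromSpecStalk x ≫ (X ↘ Spec (CommRingCat.of k)) := by
  have hf : X ↘ Spec (CommRingCat.of k) =
      X.toSpecΓ ≫ Spec.map ((Scheme.ΓSpecIso (CommRingCat.of k)).inv ≫ (X ↘ Spec (CommRingCat.of k)).appTop) := by
    rw [Spec.map_comp, ← Scheme.toSpecΓ_naturality_assoc, toSpecΓ_SpecMap_ΓSpecIso_inv, Category.comp_id]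
  rw [hf, Scheme.fromSpecStalk_toSpecΓ_assoc, ← Spec.map_comp]
  rfl

/-- `Spec (O_x ⊗ K) ⟶ X_K`. -/
noncomputable def toBc (x : X) :
    Spec (CommRingCat.of (X.presheaf.stalk x ⊗[k] K)) ⟶ Curv2.bc k X K :=
  (pullbackSpecIso k (X.presheaf.stalk x) K).inv ≫
    pullback.map _ _ _ _ (X.fromSpecStalk x) (𝟙 _) (𝟙 _) (by rw [Category.comp_id]; exact spec_stalkMap k x)
      (by simp)

theorem toBc_fst (x : X) :
    toBc k K x ≫ Curv2.bcFst k X K =
      Spec.map (CommRingCat.ofHom (algebraMap (X.presheaf.stalk x) (X.presheaf.stalk x ⊗[k] K))) ≫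
        X.fromSpecStalk x := by
  rw [toBc, Category.assoc]
  erw [pullback.lift_fst]
  rw [← Category.assoc, pullbackSpecIso_inv_fst]

theorem range_toBc (x : X) :
    Set.range (toBc k K x) = (Curv2.bcFst k X K) ⁻¹' {z | z ⤳ x} := by
  rw [toBc, Scheme.Hom.comp_base, TopCat.coe_comp, Set.range_comp]
  rw [Set.range_eq_univ.2 (pullbackSpecIso k (X.presheaf.stalk x) K).inv.surjective, Set.image_univ]
  erw [Scheme.Pullback.range_map, Scheme.range_fromSpecStalk]
  exact Set.inter_eq_left.2 fun z _ => ⟨_, rfl⟩

theorem flat_toBc (x : X) : Flat (toBc k K x) := by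
  haveI := Descend.flat_fromSpecStalk (X := X) x
  haveI : Flat (pullback.map (Spec.map (CommRingCat.ofHom (algebraMap k (X.presheaf.stalk x))))
      (Spec.map (CommRingCat.ofHom (algebraMap k K))) _ (Spec.map (CommRingCat.ofHom (algebraMap k K)))
      (X.fromSpecStalk x) (𝟙 _) (𝟙 _) (by rw [Category.comp_id]; exact spec_stalkMap k x) (by simp)) :=
    MorphismProperty.pullback_map (P := @Flat) (i₁ := X.fromSpecStalk x) (i₂ := 𝟙 (Spec (CommRingCat.of K))) inferInstance inferInstance (spec_stalkMap k x) (Category.id_comp _).symm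
  exact inferInstanceAs (Flat (_ ≫ _))

theorem surjectiveOnStalks_toBc (x : X) : SurjectiveOnStalks (toBc k K x) := by
  haveI : SurjectiveOnStalks (pullback.map (Spec.map (CommRingCat.ofHom (algebraMap k (X.presheaf.stalk x))))
      (Spec.map (CommRingCat.ofHom (algebraMap k K))) _ (Spec.map (CommRingCat.ofHom (algebraMap k K)))
      (X.fromSpecStalk x) (𝟙 _) (𝟙 _) (by rw [Category.comp_id]; exact spec_stalkMap k x) (by simp)) :=
    MorphismProperty.pullback_map (P := @SurjectiveOnStalks) (i₁ := X.fromSpecStalk x) (i₂ := 𝟙 (Spec (CommRingCat.of K))) inferInstance inferInstance (spec_stalkMap k x) (Category.id_comp _).symm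
  exact inferInstanceAs (SurjectiveOnStalks (_ ≫ _))

/-- The local rings of `O_x ⊗ K` are those of `X_K`. -/
theorem nonempty_equiv (x : X) (P : Spec (CommRingCat.of (X.presheaf.stalk x ⊗[k] K))) :
    Nonempty (((Curv2.bc k X K).presheaf.stalk (toBc k K x P)) ≃+* Localization.AtPrime P.asIdeal) := by
  haveI := flat_toBc k K x
  haveI := surjectiveOnStalks_toBc k K x
  let g := ((toBc k K x).stalkMap P).hom
  have hflat : g.Flat := Flat.stalkMap (toBc k K x) P
  have hinj : Function.Injective g := by
    letI := g.toAlgebra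
    haveI : Module.Flat ((Curv2.bc k X K).presheaf.stalk (toBc k K x P))
        ((Spec (CommRingCat.of (X.presheaf.stalk x ⊗[k] K))).presheaf.stalk P) := hflat
    haveI : IsLocalHom (algebraMap ((Curv2.bc k X K).presheaf.stalk (toBc k K x P))
        ((Spec (CommRingCat.of (X.presheaf.stalk x ⊗[k] K))).presheaf.stalk P)) :=
      inferInstanceAs (IsLocalHom g)
    haveI := Module.FaithfullyFlat.of_flat_of_isLocalHom
      (A := (Curv2.bc k X K).presheaf.stalk (toBc k K x P))
      (B := (Spec (CommRingCat.of (X.presheaf.stalk x ⊗[k] K))).presheaf.stalk P)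
    exact FaithfulSMul.algebraMap_injective _ _
  exact ⟨(RingEquiv.ofBijective g ⟨hinj, (toBc k K x).stalkMap_surjective P⟩).trans
    (StructureSheaf.stalkIso (X.presheaf.stalk x ⊗[k] K) P).toRingEquiv.symm⟩

theorem regular_stalk_of_isRegularRing (x : X) (h : IsRegularRing (X.presheaf.stalk x ⊗[k] K))
    (w : Curv2.bc k X K) (hw : Curv2.bcFst k X K w ⤳ x) :
    IsRegularLocalRing ((Curv2.bc k X K).presheaf.stalk w) := by
  obtain ⟨P, rfl⟩ : w ∈ Set.range (toBc k K x) := by rw [range_toBc]; exact hw
  obtain ⟨e⟩ := nonempty_equiv k K x P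
  haveI := h
  exact IsRegularLocalRing.of_ringEquiv e.symm

theorem isRegularRing_of_finite [IsLocallyNoetherian X] [Module.Finite k K] (x : X)
    (h : ∀ w : Curv2.bc k X K, Curv2.bcFst k X K w = x →
      IsRegularLocalRing ((Curv2.bc k X K).presheaf.stalk w)) :
    IsRegularRing (X.presheaf.stalk x ⊗[k] K) := by
  haveI : IsNoetherianRing (X.presheaf.stalk x ⊗[k] K) :=
    Algebra.FiniteType.isNoetherianRing (X.presheaf.stalk x) _
  rw [isRegularRing_iff]
  intro p hp
  obtain ⟨M, hM, hpM⟩ := Ideal.exists_le_maximal p hp.ne_top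
  haveI : M.IsPrime := hM.isPrime
  let P : Spec (CommRingCat.of (X.presheaf.stalk x ⊗[k] K)) := ⟨M, hM.isPrime⟩
  have hover : Curv2.bcFst k X K (toBc k K x P) = x := by
    haveI : (M.comap (algebraMap (X.presheaf.stalk x) (X.presheaf.stalk x ⊗[k] K))).IsMaximal :=
      Ideal.isMaximal_comap_of_isIntegral_of_isMaximal M
    rw [← Scheme.Hom.comp_apply, toBc_fst, Scheme.Hom.comp_apply]
    have e : Spec.map (CommRingCat.ofHom (algebraMap (X.presheaf.stalk x) (X.presheaf.stalk x ⊗[k] K))) P =
        IsLocalRing.closedPoint (X.presheaf.stalk x) :=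
      PrimeSpectrum.ext (IsLocalRing.eq_maximalIdeal ‹_›)
    rw [e, Scheme.fromSpecStalk_closedPoint]
  obtain ⟨e⟩ := nonempty_equiv k K x P
  haveI := h _ hover
  haveI : IsRegularLocalRing (Localization.AtPrime M) := IsRegularLocalRing.of_ringEquiv e
  have hle : M.primeCompl ≤ p.primeCompl := fun a ha hap => ha (hpM hap)
  have hd : Disjoint (M.primeCompl : Set (X.presheaf.stalk x ⊗[k] K)) p :=
    Set.disjoint_left.2 fun a ha hap => hle ha hap
  let p' : Ideal (Localization.AtPrime M) := p.map (algebraMap _ _)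
  haveI : p'.IsPrime := IsLocalization.isPrime_of_isPrime_disjoint M.primeCompl _ p hp hd
  haveI := RegLoc.isRegularLocalRing_localization (Localization.AtPrime M) p'
  haveI : IsLocalization.AtPrime (Localization.AtPrime p') p := by
    convert IsLocalization.isLocalization_isLocalization_atPrime_isLocalization M.primeCompl
      (Localization.AtPrime p') p'
    exact (IsLocalization.comap_map_of_isPrime_disjoint M.primeCompl _ hp hd).symm
  exact IsRegularLocalRing.of_ringEquiv (R := Localization.AtPrime p')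
    (IsLocalization.algEquiv p.primeCompl (Localization.AtPrime p') (Localization.AtPrime p)).toRingEquiv

theorem universallyInjective_spec [IsPurelyInseparable k K] :
    UniversallyInjective (Spec.map (CommRingCat.ofHom (algebraMap k K))) := by
  refine ((tfae_universallyInjective _).out 0 1).2 ?_
  intro L hL g₁ g₂ hg
  obtain ⟨a₁, rfl⟩ := Spec.map_surjective g₁
  obtain ⟨a₂, rfl⟩ := Spec.map_surjective g₂
  simp only [← Spec.map_comp] at hg
  have := congrArg CommRingCat.Hom.hom (Spec.map_injective hg)
  exact congrArg Spec.map (CommRingCat.hom_ext (IsPurelyInseparable.injective_comp_algebraMap k K L this))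

theorem injective_bcFst [IsPurelyInseparable k K] : Function.Injective (Curv2.bcFst k X K) := by
  haveI := universallyInjective_spec k K
  haveI : UniversallyInjective (Curv2.bcFst k X K) := MorphismProperty.pullback_fst _ _ inferInstance
  exact Scheme.Hom.injective _

end Groth.Agent.GeomReg18
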