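import Groth.Agent.Lib.GeomReg18.Crit
import Groth.Agent.Lib.FlatDepth.GeomExt
import Groth.Agent.Lib.RegSmooth17.Scheme
import Groth.Agent.Lib.GeomRed18.Smooth
import Groth.Agent.Lib.SmoothPt12.Basic
import Mathlib.FieldTheory.IsAlgClosed.AlgebraicClosure

/-!
# Geometrically regular points are the smooth points
-/

universe u

open CategoryTheory CategoryTheory.Limits AlgebraicGeometry
open scoped TensorProduct

namespace Groth.Agent.GeomReg18

attribute [local instance] Curv2.stalkAlgebra

variable (k : Type u) [Field k] (X : Scheme.{u}) [X.Over (Spec (CommRingCat.of k))]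

theorem essFiniteType_stalk [LocallyOfFiniteType (X ↘ Spec (CommRingCat.of k))] (x : X) :
    Algebra.EssFiniteType k (X.presheaf.stalk x) := by
  refine RingHom.essFiniteType_algebraMap.1 ?_
  rw [show algebraMap k (X.presheaf.stalk x) = RegSmooth17.toStalk (X ↘ Spec (CommRingCat.of k)) x from rfl,
    RegSmooth17.toStalk_eq]
  refine RingHom.EssFiniteType.comp (RingHom.EssFiniteType.comp ?_ ?_) (LocallyOfFiniteType.stalkMap _ x)
  · exact (RingHom.FiniteType.of_surjective _
      (ConcreteCategory.bijective_of_isIso (Scheme.ΓSpecIso (CommRingCat.of k)).inv).2).essFiniteType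
  · have hU := isAffineOpen_top (Spec (CommRingCat.of k))
    letI := (Spec (CommRingCat.of k)).presheaf.algebra_section_stalk (U := ⊤) ⟨(X ↘ Spec (CommRingCat.of k)) x, trivial⟩
    haveI := hU.isLocalization_stalk ⟨(X ↘ Spec (CommRingCat.of k)) x, trivial⟩
    exact RingHom.essFiniteType_algebraMap.2
      (Algebra.EssFiniteType.of_isLocalization _ (hU.primeIdealOf ⟨(X ↘ Spec (CommRingCat.of k)) x, trivial⟩).asIdeal.primeCompl)

variable {k X}

theorem isGeomRegularAt_of_mem_smoothLocus [LocallyOfFinitePresentation (X ↘ Spec (CommRingCat.of k))] {x : X}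
    (hx : x ∈ (X ↘ Spec (CommRingCat.of k)).smoothLocus) : Curv2.IsGeomRegularAt k X x := by
  intro K _ _ _ w hw
  subst hw
  letI : (Curv2.bc k X K).Over (Spec (CommRingCat.of K)) := ⟨Curv2.bcSnd k X K⟩
  haveI : LocallyOfFinitePresentation (Curv2.bc k X K ↘ Spec (CommRingCat.of K)) :=
    inferInstanceAs (LocallyOfFinitePresentation (pullback.snd _ _))
  refine GeomRed.isRegularLocalRing_of_mem_smoothLocus (k := K) ?_
  rw [← SmoothPt12.smoothPt_iff_mem]
  exact FibreLocus.isPtLocal_smoothPt.bc (IsPullback.of_hasPullback _ _) w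
    ((SmoothPt12.smoothPt_iff_mem _ _).2 hx)

theorem mem_smoothLocus_of_isGeomRegularAt [LocallyOfFinitePresentation (X ↘ Spec (CommRingCat.of k))] {x : X}
    (h : Curv2.IsGeomRegularAt k X x) : x ∈ (X ↘ Spec (CommRingCat.of k)).smoothLocus := by
  haveI : IsLocallyNoetherian X := LocallyOfFiniteType.isLocallyNoetherian (X ↘ Spec (CommRingCat.of k))
  let K := AlgebraicClosure k
  haveI := essFiniteType_stalk k X x
  haveI : IsNoetherianRing (K ⊗[k] X.presheaf.stalk x) := Algebra.EssFiniteType.isNoetherianRing K _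
  have hg := isGeometricallyRegular_of_insep k X x (insep_of_isGeomRegularAt k X x h)
  haveI : IsRegularRing (K ⊗[k] X.presheaf.stalk x) :=
    FlatDepth.regular_of_fg_subextensions K _ fun L hL =>
      (S2672.result k (X.presheaf.stalk x)).2.1 hg L (IntermediateField.essFiniteType_iff.2 hL)
  obtain ⟨w, rfl⟩ := (Curv2.bcFst k X K).surjective x
  haveI : IsRegularLocalRing ((Curv2.bc k X K).presheaf.stalk w) :=
    regular_stalk_of_isRegularRing k K _
      (IsRegularRing.of_ringEquiv (Algebra.TensorProduct.comm k K (X.presheaf.stalk (Curv2.bcFst k X K w))).toRingEquiv)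
      w specializes_rfl
  haveI : LocallyOfFinitePresentation (Curv2.bcSnd k X K) :=
    inferInstanceAs (LocallyOfFinitePresentation (pullback.snd _ _))
  exact Descend.mem_smoothLocus_of_flat_baseChange (IsPullback.of_hasPullback _ _) w
    (RegSmooth17.mem_smoothLocus_of_isRegularLocalRing (Curv2.bcSnd k X K) w
      (RegSmooth17.formallySmooth_residue_of_perfectField _ w))

end Groth.Agent.GeomReg18
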