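import Groth.Agent.Lib.GeomReg18.Stalk
import Groth.Agent.S2672

/-!
# Geometric regularity at a point and geometric regularity of the local ring
-/

universe u

open CategoryTheory CategoryTheory.Limits AlgebraicGeometry
open scoped TensorProduct

namespace Groth.Agent.GeomReg18

attribute [local instance] Curv2.stalkAlgebra

variable (k : Type u) [Field k] (X : Scheme.{u}) [X.Over (Spec (CommRingCat.of k))] [IsLocallyNoetherian X]

/-- Regularity over purely inseparable extensions. -/
def InsepRegularAt (x : X) : Prop :=
  ∀ (k' : Type u) [Field k'] [Algebra k k'] [FiniteDimensional k k'] [IsPurelyInseparable k k'] (x' : ↥(Curv2.bc k X k')),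
        Curv2.bcFst k X k' x' = x → IsRegularLocalRing ↥((Curv2.bc k X k').presheaf.stalk x')

theorem isGeometricallyRegular_of_insep (x : X) (h : InsepRegularAt k X x) :
    CAlg.IsGeometricallyRegular k (X.presheaf.stalk x) := by
  refine (S2672.result k (X.presheaf.stalk x)).1.2 fun k' _ _ hf hp => ?_
  haveI := hf
  haveI := hp
  haveI : IsRegularRing (X.presheaf.stalk x ⊗[k] k') :=
    isRegularRing_of_finite k k' x fun w hw => h k' w hw
  exact IsRegularRing.of_ringEquiv (Algebra.TensorProduct.comm k (X.presheaf.stalk x) k').toRingEquiv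

theorem isGeomRegularAt_of_isGeometricallyRegular (x : X)
    (h : CAlg.IsGeometricallyRegular k (X.presheaf.stalk x)) : Curv2.IsGeomRegularAt k X x := by
  intro K _ _ hfg w hw
  haveI := (S2672.result k (X.presheaf.stalk x)).2.1 h K (IntermediateField.fg_top_iff.1 hfg)
  exact regular_stalk_of_isRegularRing k K x
    (IsRegularRing.of_ringEquiv (Algebra.TensorProduct.comm k K (X.presheaf.stalk x)).toRingEquiv) w
    (hw ▸ specializes_rfl)

omit [IsLocallyNoetherian X] in
theorem insep_of_isGeomRegularAt (x : X) (h : Curv2.IsGeomRegularAt k X x) : InsepRegularAt k X x := by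
  intro k' _ _ _ _ w hw
  exact h k' (IntermediateField.fg_top_iff.2 inferInstance) w hw

end Groth.Agent.GeomReg18
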