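import Groth.Prelude.Def_Found
import Groth.Agent.S2672
import Groth.Agent.Lib.FlatDepth.GeomExt
import Groth.Agent.Lib.RegSmooth17.Basic
import Groth.Agent.Lib.SmoothReg17.Basic
import Groth.Agent.Lib.Descend.SmoothAtRing
import Mathlib

/-!
# Finite type algebras over a field: smooth iff geometrically regular
-/

universe u

open TensorProduct

namespace Groth.Agent.GeomReg18

variable (k B : Type u) [Field k] [CommRing B] [Algebra k B] [Algebra.FiniteType k B]

theorem isSmoothAt_iff_regular_of_perfect [PerfectField k] (q : Ideal B) [q.IsPrime] :
    Algebra.IsSmoothAt k q ↔ IsRegularLocalRing (Localization.AtPrime q) := by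
  haveI : Algebra.FinitePresentation k B := Algebra.FinitePresentation.of_finiteType.mp inferInstance
  constructor
  · intro h
    obtain ⟨f, hf, hsm⟩ := Algebra.IsSmoothAt.exists_notMem_smooth (R := k) q
    have hd : Disjoint (Submonoid.powers f : Set B) (q : Set B) := by
      rw [Set.disjoint_left]
      rintro _ ⟨n, rfl⟩ hn
      exact hf (Ideal.IsPrime.mem_of_pow_mem ‹q.IsPrime› n hn)
    haveI hP : (q.map (algebraMap B (Localization.Away f))).IsPrime :=
      IsLocalization.isPrime_of_isPrime_disjoint (Submonoid.powers f) _ q ‹_› hd
    have hc : (q.map (algebraMap B (Localization.Away f))).comap (algebraMap B _) = q :=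
      IsLocalization.comap_map_of_isPrime_disjoint (Submonoid.powers f) _ ‹q.IsPrime› hd
    haveI := SmoothReg17.isRegularLocalRing_of_smooth (algebraMap k (Localization.Away f))
      (RingHom.smooth_algebraMap.2 hsm) (q.map (algebraMap B (Localization.Away f)))
    haveI : IsLocalization.AtPrime (Localization.AtPrime (q.map (algebraMap B (Localization.Away f)))) q := by
      have := IsLocalization.isLocalization_isLocalization_atPrime_isLocalization (Submonoid.powers f)
        (Localization.AtPrime (q.map (algebraMap B (Localization.Away f)))) (q.map (algebraMap B (Localization.Away f)))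
      simpa only [hc] using this
    exact IsRegularLocalRing.of_ringEquiv
      (IsLocalization.algEquiv q.primeCompl (Localization.AtPrime (q.map (algebraMap B (Localization.Away f))))
        (Localization.AtPrime q)).toRingEquiv
  · intro h
    haveI : Algebra.EssFiniteType k q.ResidueField := Algebra.EssFiniteType.comp k B q.ResidueField
    haveI : Algebra.FormallySmooth k q.ResidueField := Algebra.FormallySmooth.of_perfectField
    exact RegSmooth17.isSmoothAt_of_isRegularLocalRing k B q

theorem smooth_of_isGeometricallyRegular (h : CAlg.IsGeometricallyRegular k B) : Algebra.Smooth k B := by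
  haveI : Algebra.FinitePresentation k B := Algebra.FinitePresentation.of_finiteType.mp inferInstance
  haveI : IsNoetherianRing B := Algebra.FiniteType.isNoetherianRing k B
  let K := AlgebraicClosure k
  haveI : IsNoetherianRing (K ⊗[k] B) := Algebra.FiniteType.isNoetherianRing K _
  haveI : IsRegularRing (K ⊗[k] B) :=
    FlatDepth.regular_of_fg_subextensions K B fun L hL =>
      (S2672.result k B).2.1 h L (IntermediateField.essFiniteType_iff.2 hL)
  refine ⟨Algebra.smoothLocus_eq_univ_iff.mp (Set.eq_univ_iff_forall.mpr fun q => ?_), inferInstance⟩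
  obtain ⟨q', rfl⟩ : q ∈ Set.range (PrimeSpectrum.comap
      (Algebra.TensorProduct.includeRight (R := k) (A := K) (B := B)).toRingHom) := by
    letI : Algebra B (K ⊗[k] B) := Algebra.TensorProduct.rightAlgebra
    haveI : Module.FaithfullyFlat B (K ⊗[k] B) :=
      Module.FaithfullyFlat.of_linearEquiv _ _ (Algebra.TensorProduct.commRight k B K).toLinearEquiv.symm
    exact PrimeSpectrum.comap_surjective_of_faithfullyFlat q
  refine Descend.smoothLocus_of_baseChange q' ?_
  exact (isSmoothAt_iff_regular_of_perfect K (K ⊗[k] B) q'.asIdeal).2 inferInstance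

theorem isGeometricallyRegular_of_smooth [Algebra.Smooth k B] : CAlg.IsGeometricallyRegular k B := by
  intro k' _ _ _
  haveI : IsNoetherianRing (k' ⊗[k] B) := Algebra.FiniteType.isNoetherianRing k' _
  rw [isRegularRing_iff]
  intro p _
  exact SmoothReg17.isRegularLocalRing_of_smooth (algebraMap k' (k' ⊗[k] B)) (RingHom.smooth_algebraMap.2 inferInstance) p

theorem smooth_iff_isGeometricallyRegular : Algebra.Smooth k B ↔ CAlg.IsGeometricallyRegular k B :=
  ⟨fun _ => isGeometricallyRegular_of_smooth k B, smooth_of_isGeometricallyRegular k B⟩

end Groth.Agent.GeomReg18
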